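import Groth.Prelude.Def_AlgEqCyc
import Groth.Agent.L06.FlatModuleLift
import Groth.Agent.L16.ProjSpace.Basic
import Mathlib.AlgebraicGeometry.ProjectiveSpectrum.Proper
import Mathlib.AlgebraicGeometry.FunctionField
import Mathlib.AlgebraicGeometry.AlgClosed.Basic

/-!
Rational points on a connected union of smooth projective curves are algebraically equivalent.
-/

set_option autoImplicit false
universe u

open AlgebraicGeometry CategoryTheory CategoryTheory.Limits

noncomputable section

namespace Groth.L16.AlgEqC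

theorem fibreMult_section {C P : Scheme.{u}} [IsIntegral C] (d : C ⟶ P) [IsClosedImmersion d]
    (g : P ⟶ C) (hdg : d ≫ g = 𝟙 C) (c : C) (h : d (genericPoint C) ⤳ d c) :
    AlgEqCyc.fibreMult g (d c) (d (genericPoint C)) h = 1 := by
  have hη : genericPoint C ⤳ c := genericPoint_specializes c
  have hinj : Function.Injective (Cyc.specMap c (genericPoint C) hη) := by
    have h1 : Function.Injective (C.presheaf.stalkSpecializes hη).hom :=
      IsFractionRing.injective (C.presheaf.stalk c) C.functionField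
    have h2 : Function.Injective (C.residue (genericPoint C)).hom := by
      letI : Field (C.presheaf.stalk (genericPoint C)) := inferInstanceAs (Field C.functionField)
      exact (C.residue (genericPoint C)).hom.injective
    exact h2.comp h1
  have hker : ∀ a, a ∈ RingHom.ker (Cyc.specMap (d c) (d (genericPoint C)) h) ↔ d.stalkMap c a = 0 := by
    intro a
    rw [RingHom.mem_ker, ← map_eq_zero_iff _ (d.residueFieldMap (genericPoint C)).hom.injective]
    have := Groth.L06.FlatModuleLift.specMap_stalkMap d hη a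
    rw [← this, map_eq_zero_iff _ hinj]
  have hbij : Function.Bijective (fun b => d.stalkMap c (g.stalkMap (d c) b)) := by
    haveI : IsIso (g.stalkMap (d c) ≫ d.stalkMap c) := by
      rw [← Scheme.Hom.stalkMap_comp, Scheme.Hom.stalkMap_congr_hom _ _ hdg, Scheme.Hom.stalkMap_id]
      exact @IsIso.comp_isIso _ _ _ _ _ _ _ inferInstance (IsIso.id _)
    exact ConcreteCategory.bijective_of_isIso (g.stalkMap (d c) ≫ d.stalkMap c)
  set R := P.presheaf.stalk (d c)
  set mk := Ideal.Quotient.mk (RingHom.ker (Cyc.specMap (d c) (d (genericPoint C)) h))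
  let J := (IsLocalRing.maximalIdeal (C.presheaf.stalk (g (d c)))).map (mk.comp (g.stalkMap (d c)).hom)
  let φ : R →ₗ[R] Cyc.LocQuot (d c) (d (genericPoint C)) h ⧸ J :=
    (IsScalarTower.toAlgHom R R (Cyc.LocQuot (d c) (d (genericPoint C)) h ⧸ J)).toLinearMap
  have hsurj : Function.Surjective φ := fun z => by
    obtain ⟨y, rfl⟩ := Ideal.Quotient.mk_surjective z
    obtain ⟨a, rfl⟩ := Ideal.Quotient.mk_surjective y
    exact ⟨a, rfl⟩
  have hkφ : LinearMap.ker φ = IsLocalRing.maximalIdeal R := by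
    ext a
    rw [LinearMap.mem_ker]
    change Ideal.Quotient.mk J (mk a) = 0 ↔ _
    rw [Ideal.Quotient.eq_zero_iff_mem]
    constructor
    · intro hmem
      have : J ≤ (IsLocalRing.maximalIdeal R).map mk := by
        simp only [J]
        rw [← Ideal.map_map]
        refine Ideal.map_mono (Ideal.map_le_iff_le_comap.2 fun b hb => ?_)
        exact (map_mem_nonunits_iff (g.stalkMap (d c)).hom b).2 hb
      have h2 := (Ideal.mem_map_iff_of_surjective mk Ideal.Quotient.mk_surjective).1 (this hmem)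
      obtain ⟨a', ha', he⟩ := h2
      have hle : RingHom.ker (Cyc.specMap (d c) (d (genericPoint C)) h) ≤ IsLocalRing.maximalIdeal R :=
        IsLocalRing.le_maximalIdeal (RingHom.ker_ne_top _)
      have := hle (Ideal.Quotient.eq.1 he)
      have h3 := sub_mem ha' this
      rwa [sub_sub_cancel] at h3
    · intro ha
      obtain ⟨b, hb⟩ := hbij.2 (d.stalkMap c a)
      have hb' : b ∈ IsLocalRing.maximalIdeal (C.presheaf.stalk (g (d c))) := by
        have h1 : d.stalkMap c a ∈ IsLocalRing.maximalIdeal _ :=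
          (map_mem_nonunits_iff (d.stalkMap c).hom a).2 ha
        have h2 := (map_mem_nonunits_iff (d.stalkMap c).hom _).1 (hb ▸ h1)
        exact (map_mem_nonunits_iff (g.stalkMap (d c)).hom b).1 h2
      have : mk a = mk ((g.stalkMap (d c)).hom b) := by
        rw [Ideal.Quotient.eq, hker, map_sub, sub_eq_zero]
        exact hb.symm
      rw [this]
      exact Ideal.mem_map_of_mem (mk.comp (g.stalkMap (d c)).hom) hb'
  have hlen : Module.length R (Cyc.LocQuot (d c) (d (genericPoint C)) h ⧸ J) = 1 := by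
    rw [← (φ.quotKerEquivOfSurjective hsurj).length_eq, Module.length_eq_one_iff,
      isSimpleModule_iff_isCoatom, hkφ]
    exact (IsLocalRing.maximalIdeal.isMaximal R).out
  unfold AlgEqCyc.fibreMult
  show (Module.length R (Cyc.LocQuot (d c) (d (genericPoint C)) h ⧸ J)).toNat = 1
  rw [hlen]
  rfl

theorem isProper_of_projective {k : Type u} [Field k] {C : Scheme.{u}} {q : C ⟶ Spec (CommRingCat.of k)}
    (hp : Neron.IsProjectiveOver k (Over.mk q)) : IsProper q := by
  obtain ⟨n, i, hcl, hiq⟩ := hp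
  haveI := hcl
  haveI := Groth.L16.ProjSpace.isProper_toBase n (Spec (CommRingCat.of k))
  exact (show i ≫ CohB1.ProjSpaceOver.toBase n (Spec (CommRingCat.of k)) = q from hiq) ▸ inferInstance

theorem elemAlgTriv_of_curve {k : Type u} [Field k] {X : Scheme.{u}} [DecidableEq ↥X]
    (p : X ⟶ Spec (CommRingCat.of k)) {C : Scheme.{u}} (q : C ⟶ Spec (CommRingCat.of k)) (hs : Smooth q)
    (hp : Neron.IsProjectiveOver k (Over.mk q)) (hi : IsIntegral C) (hd : topologicalKrullDim ↥C = 1)
    (ι : C ⟶ X) [IsClosedImmersion ι] (hι : ι ≫ p = q)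
    (P₁ P₂ : Spec (CommRingCat.of k) ⟶ C) (h₁ : P₁ ≫ q = 𝟙 _) (h₂ : P₂ ≫ q = 𝟙 _) :
    AlgEqCyc.IsElemAlgTriv p
      (Function.locallyFinsuppWithin.single (ι (P₁ (IsLocalRing.closedPoint k))) (1 : ℤ) -
        Function.locallyFinsuppWithin.single (ι (P₂ (IsLocalRing.closedPoint k))) (1 : ℤ)) := by
  haveI := hi
  haveI := isProper_of_projective hp
  let d : C ⟶ pullback p q := pullback.lift ι (𝟙 C) (by rw [hι, Category.id_comp])
  have hd1 : d ≫ pullback.fst p q = ι := pullback.lift_fst _ _ _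
  have hd2 : d ≫ pullback.snd p q = 𝟙 C := pullback.lift_snd _ _ _
  haveI : IsClosedImmersion d := by
    haveI : IsClosedImmersion (d ≫ pullback.fst p q) := by rw [hd1]; infer_instance
    exact IsClosedImmersion.of_comp d (pullback.fst p q)
  have hd1' : ∀ c, pullback.fst p q (d c) = ι c := fun c => by
    rw [← Scheme.Hom.comp_apply, hd1]
  have hd2' : ∀ c, pullback.snd p q (d c) = c := fun c => by
    rw [← Scheme.Hom.comp_apply, hd2]; rfl
  classical
  let W : AlgebraicCycle (pullback p q) ℤ := Function.locallyFinsuppWithin.single (d (genericPoint C)) 1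
  have hW : ∀ w, W w = if w = d (genericPoint C) then 1 else 0 := fun w =>
    Function.locallyFinsuppWithin.single_apply
  have hWeq : ∀ w, W w ≠ 0 → w = d (genericPoint C) := fun w hw => by
    by_contra hh
    exact hw (by rw [hW, if_neg hh])
  refine ⟨C, q, hs, hp, hi, hd, W, ?_, P₁, P₂, h₁, h₂, ?_⟩
  · intro w hw
    rw [hWeq w hw, hd2']; exact genericPoint_spec C
  · have key : ∀ (t : Spec (CommRingCat.of k) ⟶ C) (ht : t ≫ q = 𝟙 _) (x : X),
        AlgEqCyc.fibreFun p q W t ht x = if x = ι (t (IsLocalRing.closedPoint k)) then 1 else 0 := by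
      intro t ht x
      have e1 : ∀ x, pullback.fst p q (AlgEqCyc.slice p q t ht x) = x := fun x => by
        rw [← Scheme.Hom.comp_apply, AlgEqCyc.slice, pullback.lift_fst]; rfl
      have e2 : pullback.snd p q (AlgEqCyc.slice p q t ht x) = t (IsLocalRing.closedPoint k) := by
        rw [← Scheme.Hom.comp_apply, AlgEqCyc.slice, pullback.lift_snd, Scheme.Hom.comp_apply]
        congr 1
        exact Subsingleton.elim (α := PrimeSpectrum k) _ _
      have hv : d (genericPoint C) ⤳ AlgEqCyc.slice p q t ht x →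
          AlgEqCyc.slice p q t ht x = d (t (IsLocalRing.closedPoint k)) := fun h => by
        obtain ⟨c, hc⟩ := h.mem_closed d.isClosedEmbedding.isClosed_range ⟨_, rfl⟩
        rw [← hc]
        rw [← hc, hd2'] at e2
        rw [e2]
      have hiff : d (genericPoint C) ⤳ AlgEqCyc.slice p q t ht x ↔ x = ι (t (IsLocalRing.closedPoint k)) := by
        constructor
        · intro h
          rw [← e1 x, hv h, hd1']
        · rintro rfl
          have e : t ≫ ι ≫ AlgEqCyc.slice p q t ht = t ≫ d := by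
            apply pullback.hom_ext
            · simp only [AlgEqCyc.slice, Category.assoc, pullback.lift_fst, hd1, Category.comp_id]
            · simp only [AlgEqCyc.slice, Category.assoc, pullback.lift_snd, hd2]
              rw [reassoc_of% hι, reassoc_of% ht, Category.comp_id]
          have := congr($e (IsLocalRing.closedPoint k))
          simp only [Scheme.Hom.comp_apply] at this
          rw [this]
          exact (genericPoint_specializes _).map d.continuous
      unfold AlgEqCyc.fibreFun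
      split_ifs with hx
      · haveI : Unique {w : ↥(pullback p q) // W w ≠ 0 ∧ w ⤳ AlgEqCyc.slice p q t ht x} :=
          { default := ⟨d (genericPoint C), by rw [hW, if_pos rfl]; exact one_ne_zero, hiff.2 hx⟩
            uniq := fun w => Subtype.ext (hWeq _ w.2.1) }
        rw [finsum_unique]
        have hdef := hWeq _ (default : {w : ↥(pullback p q) // W w ≠ 0 ∧ w ⤳ AlgEqCyc.slice p q t ht x}).2.1
        rw [hW, if_pos hdef, one_mul]
        have gen : ∀ (v w : ↥(pullback p q)) (c : C) (_ : v = d c) (_ : w = d (genericPoint C)) (h : w ⤳ v),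
            (AlgEqCyc.fibreMult (pullback.snd p q) v w h : ℤ) = 1 := by
          rintro v w c rfl rfl h
          rw [fibreMult_section d (pullback.snd p q) hd2 c h, Nat.cast_one]
        exact gen _ _ _ (hv (hiff.2 hx)) hdef _
      · haveI : IsEmpty {w : ↥(pullback p q) // W w ≠ 0 ∧ w ⤳ AlgEqCyc.slice p q t ht x} :=
          ⟨fun ⟨w, hw, hs⟩ => hx (hiff.1 (by rwa [← hWeq w hw]))⟩
        exact finsum_of_isEmpty _
    intro x
    rw [key, key]
    rw [Function.locallyFinsuppWithin.coe_sub, Pi.sub_apply, Function.locallyFinsuppWithin.single_apply,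
      Function.locallyFinsuppWithin.single_apply]

/-- A `k`-point of `X` in the image of a closed immersion lifts. -/
theorem exists_lift_point {k : Type u} [Field k] {X C : Scheme.{u}} (ι : C ⟶ X) [IsClosedImmersion ι]
    (P : Spec (CommRingCat.of k) ⟶ X) (h : P (IsLocalRing.closedPoint k) ∈ Set.range ι) :
    ∃ t : Spec (CommRingCat.of k) ⟶ C, t ≫ ι = P := by
  obtain ⟨c, hc⟩ := h
  haveI : Nonempty ↥(pullback ι P) := by
    obtain ⟨z, -, -⟩ := Scheme.Pullback.exists_preimage_pullback (f := ι) (g := P) c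
      (IsLocalRing.closedPoint k) hc
    exact ⟨z⟩
  haveI : Surjective (pullback.snd ι P) :=
    ⟨fun z => ⟨Classical.arbitrary _, Subsingleton.elim (α := PrimeSpectrum k) _ _⟩⟩
  haveI := isIso_of_isClosedImmersion_of_surjective (pullback.snd ι P)
  exact ⟨inv (pullback.snd ι P) ≫ pullback.fst ι P, by
    rw [Category.assoc, pullback.condition, IsIso.inv_hom_id_assoc]⟩

theorem isAlgEquiv_of_connected (k : Type u) [Field k]
    [IsAlgClosed k] (X : Scheme.{u}) [DecidableEq ↥X] (p : X ⟶ Spec (CommRingCat.of k)) (n : ℕ)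
    (C : Fin n → Scheme.{u}) (q : (i : Fin n) → (C i ⟶ Spec (CommRingCat.of k)))
    (ι : (i : Fin n) → (C i ⟶ X)) (hι : ∀ i, IsClosedImmersion (ι i)) (hq : ∀ i, ι i ≫ p = q i)
    (hs : ∀ i, Smooth (q i)) (hpr : ∀ i, Neron.IsProjectiveOver k (Over.mk (q i)))
    (hint : ∀ i, IsIntegral (C i)) (hd : ∀ i, topologicalKrullDim ↥(C i) = 1)
    (hconn : _root_.IsConnected (⋃ i, Set.range ⇑(ι i)))
    (P Q : Spec (CommRingCat.of k) ⟶ X) (hP : P ≫ p = 𝟙 _) (hQ : Q ≫ p = 𝟙 _)
    (hPC : P (IsLocalRing.closedPoint k) ∈ ⋃ i, Set.range ⇑(ι i))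
    (hQC : Q (IsLocalRing.closedPoint k) ∈ ⋃ i, Set.range ⇑(ι i)) :
    AlgEqCyc.IsAlgEquiv p (Function.locallyFinsuppWithin.single (P (IsLocalRing.closedPoint k)) (1 : ℤ))
      (Function.locallyFinsuppWithin.single (Q (IsLocalRing.closedPoint k)) (1 : ℤ)) := by
  haveI := hι
  let R := fun A B : Spec (CommRingCat.of k) ⟶ X =>
    Function.locallyFinsuppWithin.single (A (IsLocalRing.closedPoint k)) (1 : ℤ) -
      Function.locallyFinsuppWithin.single (B (IsLocalRing.closedPoint k)) (1 : ℤ) ∈ AlgEqCyc.algTriv p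
  have symm : ∀ {A B}, R A B → R B A := fun {A B} h => by
    have := (AlgEqCyc.algTriv p).neg_mem h
    rwa [neg_sub] at this
  have trans' : ∀ {A B D}, R A B → R B D → R A D := fun {A B D} h h' => by
    have := (AlgEqCyc.algTriv p).add_mem h h'
    rwa [sub_add_sub_cancel] at this
  have same : ∀ (i) (A B : Spec (CommRingCat.of k) ⟶ X), A ≫ p = 𝟙 _ → B ≫ p = 𝟙 _ →
      A (IsLocalRing.closedPoint k) ∈ Set.range (ι i) → B (IsLocalRing.closedPoint k) ∈ Set.range (ι i) →
      R A B := by
    intro i A B hA hB hAi hBi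
    obtain ⟨a, rfl⟩ := exists_lift_point (ι i) A hAi
    obtain ⟨b, rfl⟩ := exists_lift_point (ι i) B hBi
    rw [Category.assoc, hq i] at hA hB
    exact AddSubgroup.subset_closure
      (elemAlgTriv_of_curve p (q i) (hs i) (hpr i) (hint i) (hd i) (ι i) (hq i) a b hA hB)
  have pick : ∀ (i) (S : Set X), IsClosed S → (Set.range (ι i) ∩ S).Nonempty →
      ∃ A : Spec (CommRingCat.of k) ⟶ X, A ≫ p = 𝟙 _ ∧
        A (IsLocalRing.closedPoint k) ∈ Set.range (ι i) ∧ A (IsLocalRing.closedPoint k) ∈ S := by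
    intro i S hS hne
    haveI := isProper_of_projective (hpr i)
    haveI : CompactSpace (C i) := QuasiCompact.compactSpace_of_compactSpace (q i)
    obtain ⟨_, ⟨c, rfl⟩, hcS⟩ := hne
    obtain ⟨x, hx, hxc⟩ := (hS.preimage (ι i).continuous).exists_closed_singleton ⟨c, hcS⟩
    let e := (pointEquivClosedPoint (q i)).symm ⟨x, hxc⟩
    have he : e.1 (IsLocalRing.closedPoint k) = x :=
      congrArg Subtype.val ((pointEquivClosedPoint (q i)).apply_symm_apply ⟨x, hxc⟩)
    refine ⟨e.1 ≫ ι i, by rw [Category.assoc, hq i]; exact e.2, ?_, ?_⟩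
    · exact ⟨x, by rw [Scheme.Hom.comp_apply, he]⟩
    · rw [Scheme.Hom.comp_apply, he]; exact hx
  obtain ⟨i₀, hi₀⟩ := Set.mem_iUnion.1 hPC
  obtain ⟨j₀, hj₀⟩ := Set.mem_iUnion.1 hQC
  let S : Set (Fin n) := {i | ∃ A : Spec (CommRingCat.of k) ⟶ X, A ≫ p = 𝟙 _ ∧
    A (IsLocalRing.closedPoint k) ∈ Set.range (ι i) ∧ R P A}
  have hi₀S : i₀ ∈ S := ⟨P, hP, hi₀, by show _ - _ ∈ _; rw [sub_self]; exact zero_mem _⟩
  by_cases hj : j₀ ∈ S
  · obtain ⟨A, hA, hAj, hPA⟩ := hj
    exact trans' hPA (same j₀ A Q hA hQ hAj hj₀)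
  exfalso
  let Z : Set (Fin n) → Set X := fun T => ⋃ i ∈ T, Set.range (ι i)
  have hZ : ∀ T, IsClosed (Z T) := fun T =>
    T.toFinite.isClosed_biUnion fun i _ => (ι i).isClosedEmbedding.isClosed_range
  obtain ⟨x, -, hx₁, hx₂⟩ := isPreconnected_closed_iff.1 hconn.2 (Z S) (Z Sᶜ) (hZ _) (hZ _)
    (fun x hx => by
      obtain ⟨i, hi⟩ := Set.mem_iUnion.1 hx
      by_cases h : i ∈ S
      · exact Or.inl (Set.mem_biUnion h hi)
      · exact Or.inr (Set.mem_biUnion h hi))
    ⟨_, hPC, Set.mem_biUnion hi₀S hi₀⟩ ⟨_, hQC, Set.mem_biUnion hj hj₀⟩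
  obtain ⟨i, hi, hxi⟩ := Set.mem_iUnion₂.1 hx₁
  obtain ⟨j, hj', hxj⟩ := Set.mem_iUnion₂.1 hx₂
  obtain ⟨B, hB, hBi, hBj⟩ := pick i _ (ι j).isClosedEmbedding.isClosed_range ⟨x, hxi, hxj⟩
  obtain ⟨A, hA, hAi, hPA⟩ := hi
  exact hj' ⟨B, hB, hBj, trans' hPA (same i A B hA hB hAi hBi)⟩

end Groth.L16.AlgEqC
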